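import Mathlib
set_option linter.all false

/-!
Partitions (Jordan types) of nilpotent endomorphisms through the dimensions of the images of the
powers: existence, uniqueness, realisation of every partition.
-/

set_option autoImplicit false

namespace Cfsg.Agent.H952.Jordan

open Module

/-! ### Multisets of positive numbers and truncated sums -/

theorem sum_sub_succ (s : Multiset ℕ) (k : ℕ) :
    (s.map (fun b => b - k)).sum =
      (s.map (fun b => b - (k + 1))).sum + Multiset.card (s.filter (fun b => k < b)) := by
  induction s using Multiset.induction with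
  | empty => simp
  | cons b s ih =>
    by_cases hb : k < b
    · rw [Multiset.map_cons, Multiset.sum_cons, Multiset.map_cons, Multiset.sum_cons,
        Multiset.filter_cons_of_pos (p := fun b => k < b) _ hb, Multiset.card_cons, ih]
      omega
    · rw [Multiset.map_cons, Multiset.sum_cons, Multiset.map_cons, Multiset.sum_cons,
        Multiset.filter_cons_of_neg (p := fun b => k < b) _ hb, ih]
      omega

theorem card_filter_le (s : Multiset ℕ) (k : ℕ) :
    Multiset.card (s.filter (fun b => k ≤ b)) =
      s.count k + Multiset.card (s.filter (fun b => k < b)) := by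
  induction s using Multiset.induction with
  | empty => simp
  | cons b s ih =>
    rcases lt_trichotomy k b with hb | hb | hb
    · rw [Multiset.filter_cons_of_pos (p := fun b => k < b) _ hb,
        Multiset.filter_cons_of_pos (p := fun b => k ≤ b) _ hb.le,
        Multiset.count_cons_of_ne hb.ne, Multiset.card_cons, Multiset.card_cons, ih]
      omega
    · subst hb
      rw [Multiset.filter_cons_of_neg (p := fun b => k < b) _ (lt_irrefl _),
        Multiset.filter_cons_of_pos (p := fun b => k ≤ b) _ le_rfl,
        Multiset.count_cons_self, Multiset.card_cons, ih]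
      omega
    · rw [Multiset.filter_cons_of_neg (p := fun b => k < b) _ hb.not_gt,
        Multiset.filter_cons_of_neg (p := fun b => k ≤ b) _ hb.not_ge,
        Multiset.count_cons_of_ne hb.ne', ih]

/-- A multiset of positive numbers is determined by the truncated sums. -/
theorem eq_of_sum_sub (s t : Multiset ℕ) (hs : ∀ b ∈ s, 0 < b) (ht : ∀ b ∈ t, 0 < b)
    (h : ∀ k, (s.map (fun b => b - k)).sum = (t.map (fun b => b - k)).sum) : s = t := by
  have h1 : ∀ k, Multiset.card (s.filter (fun b => k < b)) =
      Multiset.card (t.filter (fun b => k < b)) := by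
    intro k
    have e1 := sum_sub_succ s k
    have e2 := sum_sub_succ t k
    rw [h k, h (k + 1)] at e1
    omega
  ext k
  rcases k with _ | k
  · rw [Multiset.count_eq_zero_of_notMem (fun hm => (hs 0 hm).false),
      Multiset.count_eq_zero_of_notMem (fun hm => (ht 0 hm).false)]
  · have e1 := card_filter_le s (k + 1)
    have e2 := card_filter_le t (k + 1)
    have e3 := h1 k
    have e4 := h1 (k + 1)
    simp only [Nat.succ_le_iff] at e1 e2
    omega

/-- Existence of a multiset with given truncated sums. -/
theorem exists_multiset (n : ℕ) : ∀ (r : ℕ → ℕ), (∀ k, r (k + 1) ≤ r k) →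
    (∀ k, r (k + 1) + r (k + 1) ≤ r k + r (k + 2)) → r n = 0 →
    ∃ s : Multiset ℕ, (∀ b ∈ s, 0 < b) ∧ ∀ k, (s.map (fun b => b - k)).sum = r k := by
  induction n with
  | zero =>
    intro r h1 _ h3
    refine ⟨0, by simp, fun k => ?_⟩
    have : ∀ k, r k = 0 := by
      intro k
      induction k with
      | zero => exact h3
      | succ k ih => exact Nat.le_zero.1 (ih ▸ h1 k)
    simp [this]
  | succ n ih =>
    intro r h1 h2 h3
    obtain ⟨s, hs, hs'⟩ := ih (fun k => r (k + 1)) (fun k => h1 (k + 1)) (fun k => h2 (k + 1)) h3
    have hcard : Multiset.card s = r 1 - r 2 := by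
      have e := sum_sub_succ s 0
      rw [hs' 0, hs' 1] at e
      have e' : s.filter (fun b => 0 < b) = s := Multiset.filter_eq_self.2 hs
      rw [e'] at e
      simp only [zero_add] at e
      have : r (0 + 1) = r 1 := rfl
      have : r (1 + 1) = r 2 := rfl
      omega
    have h10 := h1 0
    have h20 := h2 0
    have h11 := h1 1
    simp only [zero_add] at h10 h20
    refine ⟨s.map (· + 1) + Multiset.replicate (r 0 - r 1 - Multiset.card s) 1, ?_, ?_⟩
    · intro b hb
      rcases Multiset.mem_add.1 hb with hb | hb
      · obtain ⟨c, _, rfl⟩ := Multiset.mem_map.1 hb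
        omega
      · rw [Multiset.eq_of_mem_replicate hb]
        exact one_pos
    · intro k
      rw [Multiset.map_add, Multiset.sum_add, Multiset.map_replicate, Multiset.sum_replicate,
        Multiset.map_map]
      rcases k with _ | k
      · have e0 := hs' 0
        simp only [Function.comp_def, tsub_zero, Multiset.map_id'] at e0 ⊢
        rw [Multiset.sum_map_add, Multiset.map_id', e0]
        simp only [Multiset.map_const', Multiset.sum_replicate, smul_eq_mul, mul_one]
        have : r (0 + 1) = r 1 := rfl
        have h21 : r (1 + 1) = r 2 := rfl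
        omega
      · have e0 := hs' k
        simp only [Function.comp_def, Nat.add_sub_add_right] at e0 ⊢
        rw [e0]
        simp

/-! ### Nilpotent endomorphisms -/

variable {F V : Type*} [Field F] [AddCommGroup V] [Module F V] [FiniteDimensional F V]

/-- Rank-nullity for the restriction of `N` to a subspace. -/
theorem finrank_map_add (N : V →ₗ[F] V) (W : Submodule F V) :
    finrank F (W.map N) + finrank F (LinearMap.ker N ⊓ W : Submodule F V) = finrank F W := by
  have h := LinearMap.finrank_range_add_finrank_ker (N.domRestrict W)
  rw [LinearMap.range_domRestrict] at h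
  have h2 : finrank F (LinearMap.ker (N.domRestrict W)) =
      finrank F (LinearMap.ker N ⊓ W : Submodule F V) := by
    rw [LinearMap.ker_domRestrict]
    have := LinearMap.finrank_range_of_inj (f := (W.subtype.comp
      (Submodule.comap W.subtype (LinearMap.ker N)).subtype))
      (by
        intro a b hab
        exact Subtype.ext (Subtype.ext hab))
    rw [← this, LinearMap.range_comp, Submodule.range_subtype, Submodule.map_comap_subtype,
      inf_comm]
  omega

omit [FiniteDimensional F V] in
theorem map_pow_succ (N : Module.End F V) (W : Submodule F V) (k : ℕ) :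
    W.map (N ^ (k + 1)) = (W.map (N ^ k)).map N := by
  rw [pow_succ', Module.End.mul_eq_comp, Submodule.map_comp]

/-- The Jordan type of a nilpotent endomorphism on an invariant subspace. -/
theorem exists_type (N : Module.End F V) (n : ℕ) (hN : N ^ n = 0) (W : Submodule F V)
    (hW : W.map N ≤ W) :
    ∃ s : Multiset ℕ, (∀ b ∈ s, 0 < b) ∧
      ∀ k, (s.map (fun b => b - k)).sum = finrank F (W.map (N ^ k)) := by
  have hmono : ∀ k, W.map (N ^ (k + 1)) ≤ W.map (N ^ k) := by
    intro k
    rw [pow_succ, Module.End.mul_eq_comp, Submodule.map_comp]
    exact Submodule.map_mono hW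
  have hrec : ∀ k, finrank F (W.map (N ^ (k + 1))) +
      finrank F (LinearMap.ker N ⊓ W.map (N ^ k) : Submodule F V) =
      finrank F (W.map (N ^ k)) := by
    intro k
    rw [map_pow_succ]
    exact finrank_map_add N _
  refine exists_multiset n (fun k => finrank F (W.map (N ^ k))) ?_ ?_ ?_
  · intro k
    exact Submodule.finrank_mono (hmono k)
  · intro k
    have e1 := hrec k
    have e2 := hrec (k + 1)
    have e3 : finrank F (LinearMap.ker N ⊓ W.map (N ^ (k + 1)) : Submodule F V) ≤
        finrank F (LinearMap.ker N ⊓ W.map (N ^ k) : Submodule F V) :=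
      Submodule.finrank_mono (inf_le_inf_left _ (hmono k))
    have e4 : k + 1 + 1 = k + 2 := rfl
    rw [e4] at e2
    omega
  · show finrank F (W.map (N ^ n)) = 0
    rw [hN, Submodule.map_zero, finrank_bot]

end Cfsg.Agent.H952.Jordan
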