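import Mathlib
import Cfsg.Agent.H952.Semi
set_option linter.all false

/-!
Isometries of odd prime order `r` (different from the characteristic) of an alternating form over
a finite field: non-degenerate invariant subspaces of the smallest possible dimension `c`.
-/

set_option autoImplicit false

namespace Cfsg.Agent.H952.SympSemi

open Module Submodule Polynomial
open Cfsg.Agent.H952.Alt Cfsg.Agent.H952.Semi

variable {F V : Type*} [Field F] [AddCommGroup V] [Module F V] {x : Module.End F V}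
  {B : LinearMap.BilinForm F V}

theorem even_finrank [FiniteDimensional F V] (hA : B.IsAlt) (n : ℕ) : ∀ W : Submodule F V,
    finrank F W = n → Nd B W → Even n := by
  induction n using Nat.strong_induction_on with
  | _ n ih =>
    intro W hWn hW
    by_cases hW0 : W = ⊥
    · rw [← hWn, hW0, finrank_bot]; exact Even.zero
    obtain ⟨u, hu, hu0⟩ := Submodule.exists_mem_ne_zero_of_ne_bot hW0
    obtain ⟨w, hw, hne⟩ := hW u hu hu0
    have hEn := Nd.pair hA hne
    have hEW : (span F {u, w} : Submodule F V) ≤ W := by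
      rw [Submodule.span_le]
      rintro y (rfl | rfl)
      · exact hu
      · exact hw
    have h1 := split_finrank hA hEn hEW
    rw [finrank_pair hA hne] at h1
    have h2 := ih _ (by omega) (W ⊓ B.orthogonal (span F {u, w})) rfl (split_nd hA hW hEn hEW)
    rw [← hWn, ← h1]
    exact even_two.add h2

theorem left_nd {W A A' : Submodule F V} (hW : Nd B W) (hs : A ⊔ A' = W)
    (ho : ∀ u ∈ A, ∀ v ∈ A', B u v = 0) : Nd B A := by
  intro u hu hu0
  obtain ⟨w, hw, hne⟩ := hW u (hs ▸ Submodule.mem_sup_left hu) hu0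
  rw [← hs] at hw
  obtain ⟨a, ha, a', ha', rfl⟩ := Submodule.mem_sup.1 hw
  refine ⟨a, ha, ?_⟩
  rwa [map_add, ho u hu a' ha', add_zero] at hne

theorem right_nd (hA : B.IsAlt) {W A A' : Submodule F V} (hW : Nd B W) (hs : A ⊔ A' = W)
    (ho : ∀ u ∈ A, ∀ v ∈ A', B u v = 0) : Nd B A' :=
  left_nd hW (sup_comm A A' ▸ hs) (fun u hu v hv => eq_zero_swap hA (ho v hv u hu))

theorem orth_fix_comm (hx : ∀ u v, B (x u) (x v) = B u v) (W W' : Submodule F V) :
    ∀ u ∈ W ⊓ LinearMap.ker (x - 1), ∀ v ∈ W'.map (x - 1), B u v = 0 := by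
  rintro u hu _ ⟨w, _, rfl⟩
  rw [LinearMap.sub_apply, Module.End.one_apply, map_sub]
  have h1 := mem_ker_sub.1 hu.2
  have h2 := hx u w
  rw [h1] at h2
  rw [h2, sub_self]

theorem injective_of_pow {r : ℕ} (hr : 0 < r) (hxr : x ^ r = 1) : Function.Injective x := by
  intro u v huv
  have h : (x ^ r) u = (x ^ r) v := by
    rw [← Nat.sub_add_cancel hr, pow_succ, Module.End.mul_apply, Module.End.mul_apply, huv]
  rwa [hxr] at h

/-- Dimensions of non-degenerate invariant subspaces without fixed points. -/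
theorem lcm_dvd_finrank [FiniteDimensional F V] [Fintype F] (hA : B.IsAlt) {r : ℕ}
    [Fact r.Prime] (hxr : x ^ r = 1) {W : Submodule F V} (hW : Nd B W) (hWx : Inv x W)
    (hfix : W ⊓ LinearMap.ker (x - 1) = ⊥) :
    (if Even (orderOf ((Fintype.card F : ℕ) : ZMod r)) then
      orderOf ((Fintype.card F : ℕ) : ZMod r) else
      2 * orderOf ((Fintype.card F : ℕ) : ZMod r)) ∣ finrank F W := by
  have h1 := orderOf_dvd_finrank hxr hWx hfix
  have h2 := even_finrank hA _ W rfl hW
  split_ifs with h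
  · exact h1
  · apply Nat.Coprime.mul_dvd_of_dvd_of_dvd _ h2.two_dvd h1
    rw [Nat.coprime_two_left]
    exact Nat.not_even_iff_odd.1 h

section adj

variable (hx : ∀ u v, B (x u) (x v) = B u v)

include hx in
theorem adj_pow {y : Module.End F V} (hy : x * y = 1) (k : ℕ) (u v : V) :
    B ((x ^ k) u) v = B u ((y ^ k) v) := by
  have h1 : ∀ u v, B (x u) v = B u (y v) := by
    intro u v
    have h : v = x (y v) := by
      rw [← Module.End.mul_apply, hy, Module.End.one_apply]
    conv_lhs => rw [h]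
    exact hx u (y v)
  induction k generalizing u v with
  | zero => simp
  | succ k ih =>
    rw [pow_succ, Module.End.mul_apply, ih, h1, pow_succ', Module.End.mul_apply]

include hx in
theorem adj_aeval {y : Module.End F V} (hy : x * y = 1) (g : F[X]) (u v : V) :
    B (aeval x g u) v = B u (aeval y g v) := by
  rw [aeval_eq_sum_range, aeval_eq_sum_range, LinearMap.sum_apply, LinearMap.sum_apply, map_sum,
    map_sum, LinearMap.sum_apply]
  refine Finset.sum_congr rfl fun k _ => ?_
  rw [LinearMap.smul_apply, LinearMap.smul_apply, map_smul, map_smul, LinearMap.smul_apply,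
    adj_pow hx hy]

end adj

theorem aeval_pow_card [Fintype F] (g : F[X]) (m : ℕ) :
    aeval (x ^ (Fintype.card F ^ m)) g = aeval x g ^ (Fintype.card F ^ m) := by
  induction m with
  | zero => simp
  | succ m ih =>
    rw [pow_succ (Fintype.card F) m, pow_mul, pow_mul, ← ih, ← map_pow (aeval _), ←
      FiniteField.expand_card, expand_aeval]

/-- Radicals of cyclic subspaces of minimal dimension. -/
theorem rad_eq [FiniteDimensional F V] [Fintype F] (hA : B.IsAlt) {r : ℕ} [Fact r.Prime]
    (hxr : x ^ r = 1) (hx : ∀ u v, B (x u) (x v) = B u v) {W U : Submodule F V}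
    (hfix : W ⊓ LinearMap.ker (x - 1) = ⊥) (hUW : U ≤ W) (hU : Inv x U)
    (hUi : finrank F U = orderOf ((Fintype.card F : ℕ) : ZMod r)) : Nd B U ∨ TI B U := by
  have hinj := injective_of_pow (Fact.out : r.Prime).pos hxr
  have hR : Inv x (U ⊓ B.orthogonal U) := split_inv hA hinj hx hU hU
  have hd := orderOf_dvd_finrank hxr hR (by
    rw [eq_bot_iff, ← hfix]
    exact inf_le_inf_right _ (inf_le_left.trans hUW))
  have hle : finrank F (U ⊓ B.orthogonal U : Submodule F V) ≤ finrank F U :=
    Submodule.finrank_mono inf_le_left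
  rcases Nat.eq_zero_or_pos (finrank F (U ⊓ B.orthogonal U : Submodule F V)) with h0 | h0
  · left
    apply Nd.of_disjoint hA
    rw [disjoint_iff]
    exact Submodule.finrank_eq_zero.1 h0
  · right
    have h1 := Nat.le_of_dvd h0 hd
    have h2 : U ⊓ B.orthogonal U = U :=
      Submodule.eq_of_le_of_finrank_eq inf_le_left (by omega)
    intro u hu v hv
    rw [← h2] at hu
    exact (mem_orth hA).1 hu.2 v hv

theorem exists_even_case [FiniteDimensional F V] [Fintype F] (hA : B.IsAlt) {r : ℕ}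
    [Fact r.Prime] (hr2 : r ≠ 2) (hrF : (r : F) ≠ 0) (hxr : x ^ r = 1)
    (hx : ∀ u v, B (x u) (x v) = B u v) {W : Submodule F V} (hW : Nd B W) (hWx : Inv x W)
    (hfix : W ⊓ LinearMap.ker (x - 1) = ⊥) (hW0 : W ≠ ⊥)
    (hord : 0 < orderOf ((Fintype.card F : ℕ) : ZMod r))
    (hev : Even (orderOf ((Fintype.card F : ℕ) : ZMod r))) :
    ∃ E ≤ W, Nd B E ∧ Inv x E ∧ finrank F E = orderOf ((Fintype.card F : ℕ) : ZMod r) := by
  have hr := (Fact.out : r.Prime)
  have hinj := injective_of_pow hr.pos hxr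
  obtain ⟨m, hm⟩ := hev
  set s := Fintype.card F ^ m with hs
  have hs0 : 0 < s := Nat.pow_pos Fintype.card_pos
  -- `x ^ s` is the inverse of `x`
  have hxs : x * x ^ s = 1 := by
    have h1 : ((s : ℕ) : ZMod r) * ((s : ℕ) : ZMod r) = 1 := by
      rw [hs, Nat.cast_pow, ← pow_add, ← hm, pow_orderOf_eq_one]
    have h2 : ((s : ℕ) : ZMod r) ≠ 1 := by
      intro h
      rw [hs, Nat.cast_pow] at h
      have h3 := Nat.le_of_dvd (by omega) (orderOf_dvd_of_pow_eq_one h)
      omega
    have h3 : ((s : ℕ) : ZMod r) = -1 := (mul_self_eq_one_iff.1 h1).resolve_left h2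
    have h4 : r ∣ s + 1 := by
      rw [← ZMod.natCast_eq_zero_iff, Nat.cast_add, h3, Nat.cast_one, neg_add_cancel]
    obtain ⟨k, hk⟩ := h4
    rw [← pow_succ', hk, pow_mul, hxr, one_pow]
  obtain ⟨φ, hφ, hdvd, v0, hv0W, hv00, hφv0⟩ := exists_factor hr.pos hxr hWx hW0
  set N := aeval x φ with hN
  have hadj : ∀ u v, B (N u) v = B u ((N ^ s) v) := by
    intro u v
    rw [hN, adj_aeval hx hxs, hs, aeval_pow_card]
  set A := W ⊓ LinearMap.ker N with hAdef
  have hAx : Inv x A := by
    intro v hv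
    refine ⟨hWx v hv.1, ?_⟩
    have h : N v = 0 := hv.2
    show N (x v) = 0
    have hc : N * x = x * N := by
      calc aeval x φ * x = aeval x (φ * X) := by rw [map_mul, aeval_X]
        _ = aeval x (X * φ) := by rw [mul_comm]
        _ = x * aeval x φ := by rw [map_mul, aeval_X]
    rw [← Module.End.mul_apply, hc, Module.End.mul_apply, h, map_zero]
  have hor : ∀ u ∈ A, ∀ v ∈ W.map N, B u v = 0 := by
    rintro u hu _ ⟨w, _, rfl⟩
    apply eq_zero_swap hA
    have h : N u = 0 := hu.2
    rw [hadj, ← Nat.sub_add_cancel hs0, pow_succ, Module.End.mul_apply, h, map_zero, map_zero]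
  have hsup : A ⊔ W.map N = W := by
    have hle : W.map N ≤ W := by
      rintro _ ⟨w, hw, rfl⟩
      exact Inv.aeval hWx φ w hw
    apply Submodule.eq_of_le_of_finrank_eq (sup_le inf_le_left hle)
    have hdis : A ⊓ W.map N = ⊥ := by
      rw [eq_bot_iff]
      rintro _ ⟨hw2, w, hw, rfl⟩
      rw [Submodule.mem_bot]
      have h : N (N w) = 0 := hw2.2
      obtain ⟨ψ, hψ⟩ := hdvd
      have hsep : (X ^ r - 1 : F[X]).Separable := by
        rw [X_pow_sub_one_separable_iff]; exact hrF
      rw [hψ] at hsep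
      obtain ⟨a, b, hab⟩ := hsep.isCoprime
      have h2 : aeval x (ψ * φ) = 0 := by
        rw [mul_comm, ← hψ, map_sub, map_pow, aeval_X, map_one, hxr, sub_self]
      have h3 : aeval x (a * φ + b * ψ) (N w) = N w := by rw [hab]; simp
      rw [← h3, map_add, LinearMap.add_apply, map_mul, Module.End.mul_apply, ← hN, h, map_zero,
        zero_add, hN, ← Module.End.mul_apply, ← map_mul, mul_assoc, map_mul, h2, mul_zero,
        LinearMap.zero_apply]
    have h1 := Submodule.finrank_sup_add_finrank_inf_eq A (W.map N)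
    rw [hdis, finrank_bot] at h1
    have h2 := Jordan.finrank_map_add N W
    rw [inf_comm, ← hAdef] at h2
    show finrank F (A ⊔ W.map N : Submodule F V) = finrank F W
    omega
  have hAnd : Nd B A := left_nd hW hsup hor
  have hA0 : v0 ∈ A := ⟨hv0W, hφv0⟩
  obtain ⟨v, hv, hne⟩ : ∃ v ∈ A, B v (x v) ≠ 0 := by
    by_contra hcon
    push Not at hcon
    have key : ∀ u ∈ A, B u (x v0 - (x ^ s) v0) = 0 := by
      intro u hu
      have h1 := hcon (u + v0) (Submodule.add_mem _ hu hA0)
      simp only [map_add, LinearMap.add_apply, hcon u hu, hcon v0 hA0, zero_add, add_zero] at h1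
      have h2 : B v0 (x u) = - B u ((x ^ s) v0) := by
        rw [Alt.swap hA, ← pow_one x, adj_pow hx hxs 1 u v0, pow_one, pow_one]
      rw [h2] at h1
      rw [map_sub]
      linear_combination h1
    have h0 : x v0 - (x ^ s) v0 = 0 := by
      by_contra h0
      obtain ⟨w, hw, hne⟩ := hAnd (x v0 - (x ^ s) v0)
        (Submodule.sub_mem _ (hAx _ hA0) (Semi.Inv.pow hAx s _ hA0)) h0
      exact hne (eq_zero_swap hA (key w hw))
    have h1 : (x ^ 2) v0 = v0 := by
      rw [sq, Module.End.mul_apply, sub_eq_zero.1 h0, ← Module.End.mul_apply, hxs,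
        Module.End.one_apply]
    have h2 : x v0 = v0 := by
      obtain ⟨k, hk⟩ := (hr.eq_two_or_odd'.resolve_left hr2)
      have h3 : ∀ j, ((x ^ 2) ^ j) v0 = v0 := by
        intro j
        induction j with
        | zero => simp
        | succ j ih => rw [pow_succ, Module.End.mul_apply, h1, ih]
      have h4 : (x ^ r) v0 = v0 := by rw [hxr, Module.End.one_apply]
      rw [hk, pow_add, pow_one, pow_mul] at h4
      have h5 : ((x ^ 2) ^ k * x) v0 = (x * (x ^ 2) ^ k) v0 := by
        rw [← pow_mul, ← pow_succ, ← pow_succ']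
      rw [h5, Module.End.mul_apply, h3] at h4
      exact h4
    have h3 : v0 ∈ W ⊓ LinearMap.ker (x - 1) := ⟨hv0W, mem_ker_sub.2 h2⟩
    rw [hfix, Submodule.mem_bot] at h3
    exact hv00 h3
  have hv0 : v ≠ 0 := by
    rintro rfl
    rw [map_zero, LinearMap.zero_apply] at hne
    exact hne rfl
  have hUi := finrank_cyc hxr hord hWx hfix hφ hdvd hv.1 hv0 hv.2
  refine ⟨cyc x v, cyc_le hWx hv.1, ?_, inv_cyc x v, hUi⟩
  rcases rad_eq hA hxr hx hfix (cyc_le hWx hv.1) (inv_cyc x v) hUi with h | h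
  · exact h
  · exact absurd (h v (mem_cyc x v) (x v) (inv_cyc x v v (mem_cyc x v))) hne

theorem exists_odd_case [FiniteDimensional F V] [Fintype F] (hA : B.IsAlt) {r : ℕ}
    [Fact r.Prime] (hrF : (r : F) ≠ 0) (hxr : x ^ r = 1)
    (hx : ∀ u v, B (x u) (x v) = B u v) {W : Submodule F V} (hW : Nd B W) (hWx : Inv x W)
    (hfix : W ⊓ LinearMap.ker (x - 1) = ⊥) (hW0 : W ≠ ⊥)
    (hord : 0 < orderOf ((Fintype.card F : ℕ) : ZMod r))
    (hodd : Odd (orderOf ((Fintype.card F : ℕ) : ZMod r))) :
    ∃ E ≤ W, Nd B E ∧ Inv x E ∧ finrank F E = 2 * orderOf ((Fintype.card F : ℕ) : ZMod r) := by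
  have hr := (Fact.out : r.Prime)
  have hinj := injective_of_pow hr.pos hxr
  obtain ⟨φ, hφ, hdvd, v, hvW, hv0, hφv⟩ := exists_factor hr.pos hxr hWx hW0
  have hUi := finrank_cyc hxr hord hWx hfix hφ hdvd hvW hv0 hφv
  set U := cyc x v with hU
  have hUx : Inv x U := inv_cyc x v
  have hUW : U ≤ W := cyc_le hWx hvW
  have hTI : TI B U := by
    rcases rad_eq hA hxr hx hfix hUW hUx hUi with h | h
    · exact absurd (even_finrank hA _ U hUi h) (Nat.not_even_iff_odd.2 hodd)
    · exact h
  -- a complement of `W ⊓ Uᗮ`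
  have hT0x : Inv x (W ⊓ B.orthogonal U) := split_inv hA hinj hx hWx hUx
  have hss : x.IsSemisimple := by
    apply Module.End.isSemisimple_of_squarefree_aeval_eq_zero (p := X ^ r - 1)
    · exact (X_pow_sub_one_separable_iff.2 hrF).squarefree
    · rw [map_sub, map_pow, aeval_X, map_one, hxr, sub_self]
  obtain ⟨Q0, hQ0x, hQ0⟩ := Module.End.isSemisimple_iff.1 hss (W ⊓ B.orthogonal U) hT0x
  have hQ0x' : Inv x Q0 := hQ0x
  set Q := Q0 ⊓ W with hQ
  have hQx : Inv x Q := hQ0x'.inf hWx
  have hQW : Q ≤ W := inf_le_right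
  have hQd : Disjoint (W ⊓ B.orthogonal U) Q := hQ0.disjoint.mono_right inf_le_left
  have hQs : (W ⊓ B.orthogonal U) ⊔ Q = W := by
    rw [hQ, ← sup_inf_assoc_of_le Q0 (inf_le_left : W ⊓ B.orthogonal U ≤ W), hQ0.sup_eq_top,
      top_inf_eq]
  have hQU : Disjoint Q (B.orthogonal U) := by
    rw [Submodule.disjoint_def]
    intro y hy hy'
    exact (Submodule.disjoint_def.1 hQd) y ⟨hQW hy, hy'⟩ hy
  have hQ0' : Q ≠ ⊥ := by
    intro h0
    rw [h0, sup_bot_eq] at hQs
    obtain ⟨w, hw, hne⟩ := hW v hvW hv0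
    rw [← hQs] at hw
    exact hne (eq_zero_swap hA ((mem_orth hA).1 hw.2 v (mem_cyc x v)))
  have hQfix : Q ⊓ LinearMap.ker (x - 1) = ⊥ := by
    rw [eq_bot_iff, ← hfix]
    exact inf_le_inf_right _ hQW
  have hQle : finrank F Q ≤ finrank F U := by
    let θ : Q →ₗ[F] (Module.Dual F U) := LinearMap.domRestrict₁₂ B Q U
    have hθ : Function.Injective θ := by
      rw [injective_iff_map_eq_zero]
      intro y hy
      apply Subtype.ext
      refine (Submodule.disjoint_def.1 hQU) y y.2 ?_
      rw [mem_orth hA]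
      intro u hu
      exact LinearMap.congr_fun hy ⟨u, hu⟩
    have h1 := LinearMap.finrank_le_finrank_of_injective hθ
    rwa [Subspace.dual_finrank_eq] at h1
  have hQi : finrank F Q = orderOf ((Fintype.card F : ℕ) : ZMod r) := by
    apply le_antisymm (hQle.trans hUi.le)
    apply Nat.le_of_dvd
    · exact Submodule.one_le_finrank_iff.2 hQ0'
    · exact orderOf_dvd_finrank hxr hQx hQfix
  have hUQ : Disjoint U Q := by
    rw [Submodule.disjoint_def]
    intro y hy hy'
    refine (Submodule.disjoint_def.1 hQU) y hy' ?_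
    rw [mem_orth hA]
    exact fun u hu => hTI y hy u hu
  refine ⟨U ⊔ Q, sup_le hUW hQW, ?_, hUx.sup hQx, ?_⟩
  · intro e he he0
    by_contra hcon
    push Not at hcon
    obtain ⟨u, hu, y, hy, rfl⟩ := Submodule.mem_sup.1 he
    have hy0 : y = 0 := by
      refine (Submodule.disjoint_def.1 hQU) y hy ?_
      rw [mem_orth hA]
      intro u' hu'
      have h1 := hcon u' (Submodule.mem_sup_left hu')
      rwa [map_add, LinearMap.add_apply, hTI u hu u' hu', zero_add] at h1
    subst hy0
    rw [add_zero] at he0 hcon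
    obtain ⟨w, hw, hne⟩ := hW u (hUW hu) he0
    rw [← hQs] at hw
    obtain ⟨t, ht, y, hy, rfl⟩ := Submodule.mem_sup.1 hw
    apply hne
    rw [map_add, hcon y (Submodule.mem_sup_right hy),
      eq_zero_swap hA ((mem_orth hA).1 ht.2 u hu), add_zero]
  · have h1 := Submodule.finrank_sup_add_finrank_inf_eq U Q
    rw [hUQ.eq_bot, finrank_bot] at h1
    omega

/-- The number `c`: the smallest dimension of a non-degenerate space with an isometry of order `r`
without fixed points. -/
noncomputable def cc (q r : ℕ) : ℕ :=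
  if Even (orderOf ((q : ℕ) : ZMod r)) then orderOf ((q : ℕ) : ZMod r) else
    2 * orderOf ((q : ℕ) : ZMod r)

theorem exists_cc [FiniteDimensional F V] [Fintype F] (hA : B.IsAlt) {r : ℕ}
    [Fact r.Prime] (hr2 : r ≠ 2) (hrF : (r : F) ≠ 0) (hxr : x ^ r = 1)
    (hx : ∀ u v, B (x u) (x v) = B u v) {W : Submodule F V} (hW : Nd B W) (hWx : Inv x W)
    (hfix : W ⊓ LinearMap.ker (x - 1) = ⊥) (hW0 : W ≠ ⊥)
    (hord : 0 < orderOf ((Fintype.card F : ℕ) : ZMod r)) :
    ∃ E ≤ W, Nd B E ∧ Inv x E ∧ finrank F E = cc (Fintype.card F) r := by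
  rw [cc]
  split_ifs with h
  · exact exists_even_case hA hr2 hrF hxr hx hW hWx hfix hW0 hord h
  · exact exists_odd_case hA hrF hxr hx hW hWx hfix hW0 hord (Nat.not_even_iff_odd.1 h)

theorem cc_pos {q r : ℕ} (hord : 0 < orderOf ((q : ℕ) : ZMod r)) : 0 < cc q r := by
  rw [cc]; split_ifs <;> omega

theorem cc_even (q r : ℕ) : Even (cc q r) := by
  rw [cc]; split_ifs with h
  · exact h
  · exact even_two_mul _

theorem cc_dvd_finrank [FiniteDimensional F V] [Fintype F] (hA : B.IsAlt) {r : ℕ}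
    [Fact r.Prime] (hxr : x ^ r = 1) {W : Submodule F V} (hW : Nd B W) (hWx : Inv x W)
    (hfix : W ⊓ LinearMap.ker (x - 1) = ⊥) : cc (Fintype.card F) r ∣ finrank F W :=
  lcm_dvd_finrank hA hxr hW hWx hfix

theorem exists_mul [FiniteDimensional F V] [Fintype F] (hA : B.IsAlt) {r : ℕ}
    [Fact r.Prime] (hr2 : r ≠ 2) (hrF : (r : F) ≠ 0) (hxr : x ^ r = 1)
    (hx : ∀ u v, B (x u) (x v) = B u v)
    (hord : 0 < orderOf ((Fintype.card F : ℕ) : ZMod r)) (m : ℕ) :
    ∀ W : Submodule F V, Nd B W → Inv x W → W ⊓ LinearMap.ker (x - 1) = ⊥ →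
      cc (Fintype.card F) r * m ≤ finrank F W →
      ∃ E ≤ W, Nd B E ∧ Inv x E ∧ finrank F E = cc (Fintype.card F) r * m := by
  have hinj := injective_of_pow (Fact.out : r.Prime).pos hxr
  induction m with
  | zero =>
    intro W _ _ _ _
    exact ⟨⊥, bot_le, Nd.bot, fun v hv => by
      rw [(Submodule.mem_bot F).1 hv, map_zero]; exact Submodule.zero_mem _,
      by rw [finrank_bot, mul_zero]⟩
  | succ m ih =>
    intro W hW hWx hfix hle
    have hc := cc_pos hord
    have hW0 : W ≠ ⊥ := by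
      intro h0
      rw [h0, finrank_bot, mul_add, mul_one] at hle
      omega
    obtain ⟨E, hEW, hE, hEx, hEf⟩ := exists_cc hA hr2 hrF hxr hx hW hWx hfix hW0 hord
    have h1 := split_finrank hA hE hEW
    obtain ⟨E', hE'W, hE', hE'x, hE'f⟩ := ih (W ⊓ B.orthogonal E) (split_nd hA hW hE hEW)
      (split_inv hA hinj hx hWx hEx) (by
        rw [eq_bot_iff, ← hfix]
        exact inf_le_inf_right _ inf_le_left) (by
        rw [mul_add, mul_one] at hle
        omega)
    have ho : ∀ u ∈ E, ∀ v ∈ E', B u v = 0 := fun u hu v hv => split_orth hA u hu v (hE'W hv)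
    refine ⟨E ⊔ E', sup_le hEW (hE'W.trans inf_le_left), hE.sup hA hE' ho, hEx.sup hE'x, ?_⟩
    have h2 := Submodule.finrank_sup_add_finrank_inf_eq E E'
    rw [(disjoint_of_orth hA hE ho).eq_bot, finrank_bot] at h2
    rw [mul_add, mul_one]
    omega

/-- Non-degenerate subspaces of every even dimension. -/
theorem exists_even_dim [FiniteDimensional F V] (hA : B.IsAlt) (m : ℕ) :
    ∀ W : Submodule F V, Nd B W → 2 * m ≤ finrank F W →
      ∃ E ≤ W, Nd B E ∧ finrank F E = 2 * m := by
  induction m with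
  | zero => intro W _ _; exact ⟨⊥, bot_le, Nd.bot, by rw [finrank_bot]⟩
  | succ m ih =>
    intro W hW hle
    have hW0 : W ≠ ⊥ := by
      intro h0
      rw [h0, finrank_bot] at hle
      omega
    obtain ⟨u, hu, hu0⟩ := Submodule.exists_mem_ne_zero_of_ne_bot hW0
    obtain ⟨w, hw, hne⟩ := hW u hu hu0
    have hEn := Nd.pair hA hne
    have hEW : (span F {u, w} : Submodule F V) ≤ W := by
      rw [Submodule.span_le]
      rintro y (rfl | rfl)
      · exact hu
      · exact hw
    have h1 := split_finrank hA hEn hEW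
    rw [finrank_pair hA hne] at h1
    obtain ⟨E', hE'W, hE', hE'f⟩ := ih _ (split_nd hA hW hEn hEW) (by omega)
    have ho : ∀ a ∈ span F {u, w}, ∀ v ∈ E', B a v = 0 := fun a ha v hv =>
      split_orth hA a ha v (hE'W hv)
    refine ⟨span F {u, w} ⊔ E', sup_le hEW (hE'W.trans inf_le_left), hEn.sup hA hE' ho, ?_⟩
    have h2 := Submodule.finrank_sup_add_finrank_inf_eq (span F {u, w}) E'
    rw [(disjoint_of_orth hA hEn ho).eq_bot, finrank_bot, finrank_pair hA hne] at h2
    omega

end Cfsg.Agent.H952.SympSemi
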